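import Groth.Agent.Lib.PointBlow85.Params
import Groth.Agent.S2348
import Groth.Agent.S4991
import Groth.Agent.H26.BlowSmooth
import Groth.Agent.Lib.BlowUpExists.Proper
import Groth.Agent.Lib.RefHull.SubStalk
import Groth.Agent.Lib.Regular.Serre
import Groth.Agent.Lib.Regular.Quotient
import Groth.Agent.Lib.RelDiv.Diff
import Groth.Agent.Lib.Ideal.BlowUp
import Groth.Agent.Lib.Ideal.EffCartier

/-!
# The blow-up of the closed point of a regular two-dimensional local scheme
-/

set_option autoImplicit false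
set_option linter.style.haveILetI false
universe u

open CategoryTheory CategoryTheory.Limits AlgebraicGeometry

namespace Groth.Agent.Lib.PointBlow85

variable {A : Type u} [CommRing A] [IsRegularLocalRing A] {X : Scheme.{u}}
  {b : X ⟶ Spec (CommRingCat.of A)}

local notation "𝓜" => Curv2.idealSheaf A (IsLocalRing.maximalIdeal A)

theorem idealSheaf_ne_bot (hA : ringKrullDim A = 2) : 𝓜 ≠ ⊥ := by
  intro h
  haveI := isRegularLocalRing_top A
  have h0 := idealSheaf_maximal_top A
  rw [h] at h0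
  have hF : IsField Γ(Spec (CommRingCat.of A), ⊤) :=
    IsLocalRing.isField_iff_maximalIdeal_eq.mpr (h0.symm.trans (by simp))
  have hF' : IsField A := MulEquiv.isField hF
    (Scheme.ΓSpecIso (CommRingCat.of A)).symm.commRingCatIsoToRingEquiv.toMulEquiv
  rw [ringKrullDim_eq_zero_of_isField hF'] at hA
  exact absurd hA (by decide)

theorem isIntegral (hA : ringKrullDim A = 2) (hb : BlowUp.IsBlowUp b 𝓜) : IsIntegral X := by
  haveI : IsDomain A := Regular.Quotient.isDomain A
  exact (S2348.result 𝓜 (idealSheaf_ne_bot hA) b hb).1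

theorem exists_top_params (hA : ringKrullDim A = 2) :
    ∃ a : Fin 2 → Γ(Spec (CommRingCat.of A), ⊤), CAlgX.IsQuasiRegular a ∧
      (𝓜).ideal ⟨⊤, isAffineOpen_top _⟩ = Ideal.span (Set.range a) := by
  haveI := isRegularLocalRing_top A
  have hd : ringKrullDim Γ(Spec (CommRingCat.of A), ⊤) = 2 :=
    (ringKrullDim_eq_of_ringEquiv
      (Scheme.ΓSpecIso (CommRingCat.of A)).commRingCatIsoToRingEquiv).trans hA
  obtain ⟨a, ha, hq⟩ := exists_params _ hd
  exact ⟨a, hq, (idealSheaf_maximal_top A).trans ha.symm⟩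

theorem isRegularLocalRing_stalk_spec (x : Spec (CommRingCat.of A)) :
    IsRegularLocalRing ((Spec (CommRingCat.of A)).presheaf.stalk x) := by
  haveI := isRegularLocalRing_top A
  letI := (Spec (CommRingCat.of A)).presheaf.algebra_section_stalk (U := ⊤) ⟨x, trivial⟩
  haveI := (isAffineOpen_top (Spec (CommRingCat.of A))).isLocalization_stalk ⟨x, trivial⟩
  exact Regular.Serre.isRegularLocalRing_of_isLocalization
    ((isAffineOpen_top (Spec (CommRingCat.of A))).primeIdealOf ⟨x, trivial⟩).asIdeal _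

theorem isRegularLocalRing_stalk_centre (y : (𝓜).subscheme) :
    IsRegularLocalRing ((𝓜).subscheme.presheaf.stalk y) := by
  haveI := isRegularLocalRing_top A
  let Z := (𝓜).subscheme
  let i := (𝓜).subschemeι
  haveI : IsAffine Z := isAffine_of_isAffineHom i
  have hker : RingHom.ker (i.app ⊤).hom = IsLocalRing.maximalIdeal Γ(Spec (CommRingCat.of A), ⊤) :=
    ((𝓜).ker_subschemeι_app ⟨⊤, isAffineOpen_top _⟩).trans (idealSheaf_maximal_top A)
  have hF : IsField Γ(Z, ⊤) := by
    haveI : (RingHom.ker (i.app ⊤).hom).IsMaximal := hker ▸ inferInstance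
    exact MulEquiv.isField (Ideal.Quotient.maximal_ideal_iff_isField_quotient _ |>.mp inferInstance)
      (RingHom.quotientKerEquivOfSurjective
        (i.app_surjective ⊤ (isAffineOpen_top _))).symm.toMulEquiv
  letI := hF.toField
  haveI : IsRegularLocalRing Γ(Z, ⊤) := inferInstance
  letI := Z.presheaf.algebra_section_stalk (U := ⊤) ⟨y, trivial⟩
  haveI := (isAffineOpen_top Z).isLocalization_stalk ⟨y, trivial⟩
  exact Regular.Serre.isRegularLocalRing_of_isLocalization
    ((isAffineOpen_top Z).primeIdealOf ⟨y, trivial⟩).asIdeal _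

theorem isRegularLocalRing_stalk (hA : ringKrullDim A = 2) (hb : BlowUp.IsBlowUp b 𝓜) (x : X) :
    IsRegularLocalRing (X.presheaf.stalk x) := by
  by_cases hx : x ∈ ((𝓜).comap b).support
  swap
  · haveI := isRegularLocalRing_stalk_spec (b x)
    exact IsRegularLocalRing.of_ringEquiv (RingEquiv.ofBijective (b.stalkMap x).hom
      (Lib.Ideal.BlowUp.bijective_stalkMap_off hb x hx))
  haveI : IsProper b := BlowUpExists.isProper_of_isBlowUp hb fun U => by
    haveI : IsNoetherianRing Γ(Spec (CommRingCat.of A), U.1) :=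
      IsLocallyNoetherian.component_noetherian U
    exact IsNoetherian.noetherian _
  haveI : IsLocallyNoetherian X := LocallyOfFiniteType.isLocallyNoetherian b
  haveI : IsLocallyNoetherian (𝓜).subscheme := LocallyOfFiniteType.isLocallyNoetherian (𝓜).subschemeι
  obtain ⟨a, hq, hI⟩ := exists_top_params hA
  have hker : (𝓜).subschemeι.ker = 𝓜 := Scheme.IdealSheafData.ker_subschemeι _
  have hle' : 𝓜 ≤ (BlowUp.exceptional b 𝓜).map b := Scheme.IdealSheafData.le_map_comap _ b
  let g := Scheme.IdealSheafData.subschemeMap (BlowUp.exceptional b 𝓜) 𝓜 b hle'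
  have hg : g ≫ (𝓜).subschemeι = (BlowUp.exceptional b 𝓜).subschemeι ≫ b :=
    Scheme.IdealSheafData.subschemeMap_subschemeι _ _ b hle'
  haveI : Smooth g := by
    have key : ∀ (K : (Spec (CommRingCat.of A)).IdealSheafData), K = 𝓜 →
        ∀ (g : (BlowUp.exceptional b K).subscheme ⟶ (𝓜).subscheme),
        g ≫ (𝓜).subschemeι = (BlowUp.exceptional b K).subschemeι ≫ b →
        K = (𝓜).subschemeι.ker → Smooth g := by
      intro K hK g hg hK'
      subst hK'
      exact H26.BlowSmooth.smooth (𝓜).subschemeι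
        (fun z => ⟨⟨⊤, isAffineOpen_top _⟩, 2, a, trivial, hq, by rw [hK]; exact hI⟩) b
        (hK.symm ▸ hb) g hg
    exact key 𝓜 rfl g hg hker.symm
  rw [← SetLike.mem_coe, ← Scheme.IdealSheafData.range_subschemeι] at hx
  obtain ⟨d, rfl⟩ := hx
  haveI := isRegularLocalRing_stalk_centre (g d)
  haveI : IsRegularLocalRing ((BlowUp.exceptional b 𝓜).subscheme.presheaf.stalk d) :=
    (S4991.result g d ⟨⊤, trivial, inferInstance⟩).mpr inferInstance
  obtain ⟨U, hdU, f, hf, hfU⟩ := hb.1 ((BlowUp.exceptional b 𝓜).subschemeι d)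
  let L := X.presheaf.stalk ((BlowUp.exceptional b 𝓜).subschemeι d)
  let t : L := (X.presheaf.germ U.1 _ hdU).hom f
  have htk : RingHom.ker ((BlowUp.exceptional b 𝓜).subschemeι.stalkMap d).hom = Ideal.span {t} := by
    rw [RefHull.SubStalk.ker_stalkMap _ hfU d hdU, Set.image_singleton]
  have ht : t ∈ nonZeroDivisors L := Lib.Ideal.EffCartier.germ_mem_nonZeroDivisors U.2 hf _ hdU
  have htm : t ∈ IsLocalRing.maximalIdeal L :=
    IsLocalRing.le_maximalIdeal (RingHom.ker_ne_top _) (htk.ge (Ideal.mem_span_singleton_self t))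
  haveI : IsRegularLocalRing
      (L ⧸ RingHom.ker ((BlowUp.exceptional b 𝓜).subschemeι.stalkMap d).hom) :=
    IsRegularLocalRing.of_ringEquiv (RingHom.quotientKerEquivOfSurjective
      (RefHull.SubStalk.stalkMap_surjective _ d)).symm
  have hq' : IsRegularLocalRing (L ⧸ Ideal.span {t}) :=
    IsRegularLocalRing.of_ringEquiv (Ideal.quotEquivOfEq htk)
  have hreg : IsSMulRegular L t := fun u v h => (mul_cancel_left_mem_nonZeroDivisors ht).mp h
  exact Regular.Quotient.of_quotient_singleton htm hreg hq'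

theorem pullback_divisor (hA : ringKrullDim A = 2) (hb : BlowUp.IsBlowUp b 𝓜) (f : A) (μ : ℕ)
    (hf : f ∈ IsLocalRing.maximalIdeal A ^ μ) (hf' : f ∉ IsLocalRing.maximalIdeal A ^ (μ + 1)) :
    (Curv2.idealSheaf A (Ideal.span {f})).comap b ≤ BlowUp.exceptional b 𝓜 ^ μ ∧
      ¬ (Curv2.idealSheaf A (Ideal.span {f})).comap b ≤ BlowUp.exceptional b 𝓜 ^ (μ + 1) ∧
      ∃ I' : X.IdealSheafData, BlowUp.IsEffCartierIdeal I' ∧
        (Curv2.idealSheaf A (Ideal.span {f})).comap b = I' * BlowUp.exceptional b 𝓜 ^ μ ∧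
        ¬ ((BlowUp.exceptional b 𝓜).support : Set X) ⊆ (I'.support : Set X) := by
  haveI := isRegularLocalRing_top A
  haveI : IsDomain A := Regular.Quotient.isDomain A
  haveI := isIntegral hA hb
  let T : (Spec (CommRingCat.of A)).affineOpens := ⟨⊤, isAffineOpen_top _⟩
  let φ := (Scheme.ΓSpecIso (CommRingCat.of A)).inv.hom
  have hφ : Function.Bijective φ :=
    ConcreteCategory.bijective_of_isIso (Scheme.ΓSpecIso (CommRingCat.of A)).inv
  have hfT : (Curv2.idealSheaf A (Ideal.span {f})).ideal T = Ideal.span {φ f} := by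
    rw [idealSheaf_top, Ideal.map_span, Set.image_singleton]
  obtain ⟨a, hq, hI⟩ := exists_top_params hA
  have hmem : φ f ∈ Ideal.span (Set.range a) ^ μ := by
    rw [← hI, idealSheaf_top, ← Ideal.map_pow]
    exact Ideal.mem_map_of_mem _ hf
  have hnmem : φ f ∉ Ideal.span (Set.range a) ^ (μ + 1) := by
    rw [← hI, idealSheaf_top, ← Ideal.map_pow]
    intro h
    obtain ⟨y, hy, hyf⟩ := (Ideal.mem_map_iff_of_surjective φ hφ.2).mp h
    exact hf' (hφ.1 hyf ▸ hy)
  haveI : (Ideal.span (Set.range a)).IsPrime := by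
    rw [← hI, idealSheaf_maximal_top]; infer_instance
  set J := (Curv2.idealSheaf A (Ideal.span {f})).comap b
  set E := BlowUp.exceptional b 𝓜 with hEdef
  have hEeff : BlowUp.IsEffCartierIdeal E := hb.1
  have hJle : J ≤ E ^ μ := by
    rw [hEdef, BlowUp.exceptional, ← Lib.Ideal.Comap.comap_pow]
    refine Scheme.IdealSheafData.comap_mono b (Scheme.IdealSheafData.le_of_isAffine ?_)
    rw [Scheme.IdealSheafData.ideal_pow, Pi.pow_apply]
    change (Curv2.idealSheaf A (Ideal.span {f})).ideal T ≤ (𝓜).ideal T ^ μ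
    rw [hfT, hI, Ideal.span_singleton_le_iff_mem]
    exact hmem
  let I' := RelDiv.Diff.colon J (E ^ μ)
    (RelDiv.Diff.fg_of_isEffCartier (Lib.Ideal.EffCartier.isEffCartier_pow hEeff μ))
  have hJI : E ^ μ * I' = J :=
    RelDiv.Diff.mul_colon (Lib.Ideal.EffCartier.isEffCartier_pow hEeff μ) hJle
  have hfne : φ f ≠ 0 := fun h => hnmem (h ▸ Ideal.zero_mem _)
  have hJeff : BlowUp.IsEffCartierIdeal J :=
    Lib.Ideal.BlowUp.isEffCartier_comap_blowUp hb fun x =>
      ⟨T, trivial, φ f, mem_nonZeroDivisors_of_ne_zero hfne, hfT⟩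
  have hI'eff : BlowUp.IsEffCartierIdeal I' := by
    refine Lib.Ideal.EffCartier.isEffCartier_factor_left (J := E ^ μ) ?_
    rw [mul_comm, hJI]
    exact hJeff
  -- a chart
  obtain ⟨x⟩ := (inferInstance : Nonempty X)
  obtain ⟨j, D, hD, hDU, e, hxD, he⟩ := H26.BlowSmooth.exists_chart hb x (U := T) trivial a hI
  let Dv : X.affineOpens := ⟨D, hD⟩
  haveI : Nonempty D := ⟨⟨x, hxD⟩⟩
  haveI := e.symm.injective.nontrivial
  obtain ⟨f', hfeq, hfn⟩ := exists_strict hq j hmem hnmem
  set dd := e (algebraMap _ _ (a j)) with hdd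
  have hED : E.ideal Dv = Ideal.span {dd} := by
    rw [hEdef, BlowUp.exceptional, Lib.Ideal.Comap.ideal_comap b _ T Dv hDU, hI,
      show (b.appLE T.1 D hDU).hom = e.toRingHom.comp (algebraMap _ _) from RingHom.ext fun r => (he r).symm,
      ← Ideal.map_map, BlowUpExists.map_ideal_eq_span _ _ (Ideal.subset_span (Set.mem_range_self j)), Ideal.map_span,
      Set.image_singleton]
    rfl
  have hJD : J.ideal Dv = Ideal.span {dd ^ μ * e f'} := by
    rw [Lib.Ideal.Comap.ideal_comap b _ T Dv hDU, hfT, Ideal.map_span, Set.image_singleton]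
    congr 2
    change b.appLE T.1 D hDU (φ f) = _
    rw [← he, hfeq, map_mul, map_pow]
  have hddnz : dd ∈ nonZeroDivisors Γ(X, D) :=
    map_mem_nonZeroDivisors e e.injective (BlowUpExists.algebraMap_gen_mem_nonZeroDivisors _ _)
  have hI'D : I'.ideal Dv = Ideal.span {e f'} := by
    have h1 : Ideal.span {dd ^ μ} * I'.ideal Dv = Ideal.span {dd ^ μ} * Ideal.span {e f'} := by
      rw [Ideal.span_singleton_mul_span_singleton, ← hJD, ← hJI, Scheme.IdealSheafData.ideal_mul,
        Pi.mul_apply, Scheme.IdealSheafData.ideal_pow, Pi.pow_apply, hED, Ideal.span_singleton_pow]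
    exact (Ideal.span_singleton_mul_right_inj
      (nonZeroDivisors.ne_zero (pow_mem hddnz μ))).mp h1
  refine ⟨hJle, fun h => ?_, I', hI'eff, by rw [mul_comm, hJI], fun h => ?_⟩
  · have h1 := h Dv
    rw [hJD, Scheme.IdealSheafData.ideal_pow, Pi.pow_apply, hED, Ideal.span_singleton_pow,
      Ideal.span_singleton_le_iff_mem, Ideal.mem_span_singleton'] at h1
    obtain ⟨w, hw⟩ := h1
    have h2 : e f' = w * dd := (mul_cancel_left_mem_nonZeroDivisors (pow_mem hddnz μ)).mp
      (by rw [← hw]; ring)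
    refine hfn 1 ?_
    rw [pow_one, Ideal.mem_span_singleton']
    exact ⟨e.symm w, e.injective (by rw [map_mul, e.apply_symm_apply, h2])⟩
  · have h1 : (E.support : Set X) ∩ D ⊆ (I'.support : Set X) ∩ D := Set.inter_subset_inter_left _ h
    rw [E.coe_support_inter Dv, I'.coe_support_inter Dv, ← hD.fromSpec_image_zeroLocus,
      ← hD.fromSpec_image_zeroLocus, hED, hI'D] at h1
    have h1 := (PrimeSpectrum.zeroLocus_subset_zeroLocus_iff _ _).mp
      ((Set.image_subset_image_iff hD.fromSpec.isOpenEmbedding.injective).mp h1)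
    obtain ⟨n, hn⟩ := h1 (Ideal.mem_span_singleton_self _)
    refine hfn n ?_
    rw [Ideal.mem_span_singleton'] at hn ⊢
    obtain ⟨w, hw⟩ := hn
    exact ⟨e.symm w, e.injective (by rw [map_mul, map_pow, e.apply_symm_apply, ← hw])⟩

end Groth.Agent.Lib.PointBlow85
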