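import Groth.Agent.H26.BlowChart
import Groth.Agent.Lib.Regular.Quotient
import Groth.Agent.Lib.Regular45.QuasiReg
import Groth.Prelude.Def_CurvBase

/-!
# The centre of the blow-up of the closed point of a regular two-dimensional local scheme
-/

set_option autoImplicit false
universe u

open CategoryTheory AlgebraicGeometry MvPolynomial

namespace Groth.Agent.Lib.PointBlow85

theorem exists_params (A : Type u) [CommRing A] [IsRegularLocalRing A] (hA : ringKrullDim A = 2) :
    ∃ a : Fin 2 → A, Ideal.span (Set.range a) = IsLocalRing.maximalIdeal A ∧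
      CAlgX.IsQuasiRegular a := by
  have hd : (IsLocalRing.maximalIdeal A).spanFinrank = 2 := by
    have h := IsRegularLocalRing.spanFinrank_maximalIdeal (R := A)
    rw [hA] at h
    exact_mod_cast h
  obtain ⟨s, hs, hspan⟩ := Submodule.FG.exists_span_finset_card_eq_spanFinrank
    (IsNoetherian.noetherian (IsLocalRing.maximalIdeal A))
  rw [hd] at hs
  classical
  obtain ⟨x, y, -, rfl⟩ := Finset.card_eq_two.mp hs
  have hr : Set.range ![x, y] = {x, y} := by
    simp [Matrix.range_cons, Set.pair_comm]
  have hspan' : Ideal.span ({x, y} : Set A) = IsLocalRing.maximalIdeal A := by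
    rw [← hspan]
    simp [Ideal.submodule_span_eq]
  refine ⟨![x, y], by rw [hr, hspan'], ?_⟩
  refine Regular45.QuasiReg.quasiRegular_of_isWeaklyRegular _
    (Regular.Quotient.isRegular_of_span_eq_maximalIdeal _ ?_ ?_).toIsWeaklyRegular
  · rw [Ideal.ofList, ← hspan']
    congr 1
    ext z
    simp
  · rw [hd]
    simp

/-- The ideal of `Curv2.idealSheaf` on the whole spectrum. -/
theorem idealSheaf_top (A : Type u) [CommRing A] (I : Ideal A) :
    (Curv2.idealSheaf A I).ideal ⟨⊤, isAffineOpen_top _⟩ =
      I.map (Scheme.ΓSpecIso (CommRingCat.of A)).inv.hom :=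
  Scheme.IdealSheafData.equivOfIsAffine.right_inv _

theorem isRegularLocalRing_top (A : Type u) [CommRing A] [IsRegularLocalRing A] :
    IsRegularLocalRing Γ(Spec (CommRingCat.of A), ⊤) :=
  IsRegularLocalRing.of_ringEquiv (Scheme.ΓSpecIso (CommRingCat.of A)).symm.commRingCatIsoToRingEquiv

theorem idealSheaf_maximal_top (A : Type u) [CommRing A] [IsRegularLocalRing A] :
    haveI := isRegularLocalRing_top A
    (Curv2.idealSheaf A (IsLocalRing.maximalIdeal A)).ideal ⟨⊤, isAffineOpen_top _⟩ =
      IsLocalRing.maximalIdeal Γ(Spec (CommRingCat.of A), ⊤) := by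
  haveI := isRegularLocalRing_top A
  rw [idealSheaf_top]
  exact (IsLocalRing.eq_maximalIdeal (Ideal.map_isMaximal_of_equiv
    (Scheme.ΓSpecIso (CommRingCat.of A)).symm.commRingCatIsoToRingEquiv))

theorem dehom_monomial {A : Type u} [CommRing A] {c : ℕ} (j : Fin c) (d : Fin c →₀ ℕ) (r : A) :
    H26.BlowChart.dehom j A (monomial d r) = monomial (d.subtypeDomain fun i => i ≠ j) r := by
  suffices H26.BlowChart.dehom j A (monomial d 1) = monomial (d.subtypeDomain fun i => i ≠ j) 1 by
    have h1 : monomial d r = C r * monomial d (1 : A) := by rw [C_mul_monomial, mul_one]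
    rw [h1, map_mul, this]
    simp [H26.BlowChart.dehom, C_mul_monomial]
  induction d using Finsupp.induction_linear with
  | zero => simp
  | add f g hf hg =>
    rw [Finsupp.subtypeDomain_add, show (1 : A) = 1 * 1 from (one_mul 1).symm, ← monomial_mul,
      ← monomial_mul, map_mul, hf, hg]
  | single i n =>
    rw [← X_pow_eq_monomial, map_pow]
    by_cases h : i = j
    · subst h
      simp only [H26.BlowChart.dehom, aeval_X, dif_pos, one_pow]
      rw [show Finsupp.subtypeDomain (fun k => k ≠ i) (Finsupp.single i n) = 0 by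
        ext ⟨k, hk⟩; simp [Finsupp.single_apply, Ne.symm hk]]
      simp
    · simp only [H26.BlowChart.dehom, aeval_X, dif_neg h]
      rw [X_pow_eq_monomial]
      congr 2
      ext ⟨k, hk⟩
      simp [Finsupp.single_apply, Subtype.ext_iff]

theorem coeff_dehom {A : Type u} [CommRing A] {c : ℕ} (j : Fin c) {F : MvPolynomial (Fin c) A}
    {N : ℕ} (hF : F.IsHomogeneous N) {d : Fin c →₀ ℕ} (hd : F.coeff d ≠ 0) :
    (H26.BlowChart.dehom j A F).coeff (d.subtypeDomain fun i => i ≠ j) = F.coeff d := by
  classical
  conv_lhs => rw [F.as_sum, map_sum, coeff_sum]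
  simp only [dehom_monomial]
  rw [Finset.sum_eq_single d]
  · rw [coeff_monomial, if_pos rfl]
  · intro e he hne
    rw [coeff_monomial, if_neg]
    intro heq
    apply hne
    have hdeg : ∀ {v : Fin c →₀ ℕ}, F.coeff v ≠ 0 → v j + ∑ i ∈ Finset.univ.erase j, v i = N := by
      intro v hv
      rw [Finset.add_sum_erase _ _ (Finset.mem_univ j), ← hF hv]
      simp [Finsupp.weight_apply, Finsupp.sum_fintype]
    have hoff : ∀ i, i ≠ j → e i = d i := fun i hi => DFunLike.congr_fun heq ⟨i, hi⟩
    ext i
    by_cases h : i = j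
    · subst h
      have h1 := hdeg (mem_support_iff.mp he)
      have h2 := hdeg hd
      rw [Finset.sum_congr rfl fun k hk => hoff k (Finset.ne_of_mem_erase hk)] at h1
      change e i + (Finset.univ.erase i).sum (fun k => d k) = N at h1
      change d i + (Finset.univ.erase i).sum (fun k => d k) = N at h2
      omega
    · exact hoff i h
  · intro h
    exact absurd (mem_support_iff.mpr hd) h

/-- Writing an element of exact order `μ` in a quasi-regular ideal on a chart: its quotient by the
`μ`-th power of the generator is nowhere nilpotent modulo the exceptional ideal. -/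
theorem exists_strict {A : Type u} [CommRing A] {c : ℕ} {a : Fin c → A}
    (hq : CAlgX.IsQuasiRegular a) [hprime : (Ideal.span (Set.range a)).IsPrime] (j : Fin c)
    {f : A} {μ : ℕ} (hf : f ∈ Ideal.span (Set.range a) ^ μ)
    (hf' : f ∉ Ideal.span (Set.range a) ^ (μ + 1)) :
    ∃ f' : BlowUp.affineAlgebra A (Ideal.span (Set.range a)) (a j),
      algebraMap A _ f =
        algebraMap A (BlowUp.affineAlgebra A (Ideal.span (Set.range a)) (a j)) (a j) ^ μ * f' ∧
      ∀ n : ℕ, f' ^ n ∉
        Ideal.span {algebraMap A (BlowUp.affineAlgebra A (Ideal.span (Set.range a)) (a j)) (a j)} := by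
  obtain ⟨F, hF, rfl⟩ := (Ideal.mem_span_pow_iff_exists_isHomogeneous a f).mp hf
  obtain ⟨d, hd⟩ : ∃ d, F.coeff d ∉ Ideal.span (Set.range a) := by
    by_contra h
    push Not at h
    exact hf' (by rw [pow_succ']; exact Regular45.QuasiReg.eval_mem_mul_pow a _ hF h)
  set P := H26.BlowChart.dehom j A F with hP
  refine ⟨H26.BlowChart.evalChart a j P, ?_, fun n hn => ?_⟩
  · have key : ∀ d : Fin c →₀ ℕ, ∀ r : A, F.coeff d ≠ 0 →
        algebraMap A (BlowUp.affineAlgebra A (Ideal.span (Set.range a)) (a j)) (eval a (monomial d r)) =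
          algebraMap A (BlowUp.affineAlgebra A (Ideal.span (Set.range a)) (a j)) (a j) ^ μ *
            H26.BlowChart.evalChart a j (H26.BlowChart.dehom j A (monomial d r)) := by
      intro d r hd
      have hdeg : ∑ i, d i = μ := by
        rw [← hF hd]
        simp [Finsupp.weight_apply, Finsupp.sum_fintype]
      have hX : ∀ i, algebraMap A (BlowUp.affineAlgebra A (Ideal.span (Set.range a)) (a j)) (a i) =
          algebraMap A (BlowUp.affineAlgebra A (Ideal.span (Set.range a)) (a j)) (a j) *
            H26.BlowChart.evalChart a j (H26.BlowChart.dehom j A (X i)) := by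
        intro i
        by_cases h : i = j
        · subst h
          simp [H26.BlowChart.dehom]
        · simp only [H26.BlowChart.dehom, aeval_X, dif_neg h, H26.BlowChart.evalChart]
          rw [mul_comm]
          exact (Groth.Agent.Lib.BlowUpExists.afrac_spec _).symm
      rw [monomial_eq, Finsupp.prod_fintype _ _ (fun i => pow_zero _)]
      simp only [map_mul, map_prod, map_pow, eval_C, eval_X]
      rw [Finset.prod_congr rfl fun i _ => by rw [hX i, mul_pow], Finset.prod_mul_distrib,
        Finset.prod_pow_eq_pow_sum, hdeg]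
      rw [show H26.BlowChart.evalChart a j (H26.BlowChart.dehom j A (C r)) = algebraMap A _ r by
        simp [H26.BlowChart.dehom, H26.BlowChart.evalChart]]
      ring
    rw [hP, F.as_sum]
    simp only [map_sum, Finset.mul_sum]
    exact Finset.sum_congr rfl fun d hd => key d _ (mem_support_iff.mp hd)
  · have h0 := H26.BlowChart.map_eq_zero_of_mem hq (Ideal.Quotient.mk (Ideal.span (Set.range a)))
      (fun x hx => Ideal.Quotient.eq_zero_iff_mem.mpr hx) (P ^ n) (by rwa [map_pow])
    rw [map_pow] at h0
    have h1 := congrArg (coeff (d.subtypeDomain fun i => i ≠ j))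
      (pow_eq_zero_iff'.mp h0).1
    rw [coeff_map, hP, coeff_dehom j hF (fun h => hd (by rw [h]; exact Ideal.zero_mem _)), coeff_zero,
      Ideal.Quotient.eq_zero_iff_mem] at h1
    exact hd h1

end Groth.Agent.Lib.PointBlow85
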